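import Groth.Agent.DSites.Spectral.PatchGermSheaf

/-!
# Vanishing of cohomology on spectral spaces above the dimension
-/

universe u

set_option autoImplicit false
set_option backward.isDefEq.respectTransparency false
set_option backward.isDefEq.respectTransparency.types false

open CategoryTheory CategoryTheory.Limits Opposite TopologicalSpace Topology Abelian
open Groth.Agent.DSites.PB
open Groth.Agent.DSites.Desc (secX)

namespace Groth.Agent.DSites.Spectral

noncomputable section

variable {X : TopCat.{u}}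

/-- The dimension of the closure of a point. -/
def ptDim (x : X) : ℕ∞ :=
  Order.height (⟨closure {x}, isIrreducible_singleton.closure, isClosed_closure⟩ : IrreducibleCloseds X)

/-- The stalks vanish at the points whose closure has dimension at least `e`. -/
def StalkLT (F : CohTop.Ab X) (e : ℕ) : Prop :=
  ∀ x : X, (e : ℕ∞) ≤ ptDim x → ∀ a : (ClosedEmb.stalkF x).obj F, a = 0

lemma ptDim_succ_le [T0Space X] {x y : X} (h : y ⤳ x) (hne : y ≠ x) : ptDim x + 1 ≤ ptDim y := by
  refine Order.height_add_one_le (lt_of_le_of_ne ?_ fun e => hne ?_)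
  · show closure {x} ⊆ closure {y}
    exact specializes_iff_closure_subset.1 h
  · have e' : closure {x} = closure {y} := congrArg (fun T : IrreducibleCloseds X => (T : Set X)) e
    exact (Inseparable.eq ((inseparable_iff_closure_eq).2 e')).symm

theorem stalkLT_of_dim (F : CohTop.Ab X) {d : ℕ} (hd : topologicalKrullDim X ≤ d) : StalkLT F (d + 1) :=
  fun x hx => by
    exfalso
    have h1 : ((ptDim x : ℕ∞) : WithBot ℕ∞) ≤ d := (Order.height_le_krullDim _).trans hd
    have h2 : ptDim x ≤ (d : ℕ∞) := by exact_mod_cast h1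
    have h3 := hx.trans h2
    norm_cast at h3
    omega

theorem isZero_of_stalkLT_zero (F : CohTop.Ab X) (hF : StalkLT F 0) : IsZero F := by
  rw [IsZero.iff_id_eq_zero]
  apply Sheaf.hom_ext
  ext U s
  exact TopCat.Presheaf.section_ext F U.unop _ _ fun x hx => (hF x (by simp) _).trans (hF x (by simp) _).symm

variable [SpectralSpace X]

theorem stalkLT_cokernel (F : CohTop.Ab X) (e : ℕ) (hF : StalkLT F (e + 1)) :
    StalkLT (cokernel (toCons F)) e := by
  classical
  intro t ht a
  have hy := SiteBase.preservesFiniteColimits_stalk (X := X) t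
  have : PreservesFiniteColimits (ClosedEmb.stalkF t) := hy
  have he : Epi ((ClosedEmb.stalkF t).map (cokernel.π (toCons F))) := inferInstance
  obtain ⟨b, rfl⟩ := (AddCommGrpCat.epi_iff_surjective _).1 he a
  suffices ∃ c, (ClosedEmb.stalkF t).map (toCons F) c = b by
    obtain ⟨c, rfl⟩ := this
    rw [← ConcreteCategory.comp_apply, ← Functor.map_comp, cokernel.condition, Functor.map_zero]
    rfl
  obtain ⟨U, -, htU, s, rfl⟩ := exists_gr (cons F) (U := ⊤) trivial b
  let s' : famGerm F U := s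
  obtain ⟨W₀, hW₀, htW₀, f₀, hf₀⟩ := exists_gr F htU (s'.1 ⟨t, htU⟩)
  obtain ⟨W, cW, htW, hW⟩ := exists_compact_nbhd htW₀
  let Ag : X → Prop := fun z => ∀ hz : z ∈ W, s'.1 ⟨z, hW₀ (hW hz)⟩ = gr F W₀ z (hW hz) f₀
  have hcov : ∀ y ∈ W, ∃ (A : Set X) (K : Opens X), IsOpen[constructibleTopology X] A ∧ y ∈ A ∧ t ∈ K ∧
      ∀ z ∈ A, z ∈ K → Ag z := fun y hy => by
    by_cases hyt : y ⤳ t
    · have hyAg : Ag y := fun hz => by
        rcases eq_or_ne y t with rfl | hne
        · rw [hf₀]
        · have := hF y ((by push_cast; exact add_le_add_left ht 1 : ((e + 1 : ℕ) : ℕ∞) ≤ ptDim t + 1).trans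
            (ptDim_succ_le hyt hne))
          exact (this _).trans (this _).symm
      obtain ⟨W₁, hW₁, K₁, cW₁, cK₁, yW₁, yK₁, f₁, hf₁⟩ := s'.2 y (hW₀ (hW hy))
      have e₁ := (hf₁ y yW₁ yK₁).symm.trans (hyAg hy)
      obtain ⟨N, hN₁, hN, hyN, he⟩ := TopCat.Presheaf.germ_eq (F := F.obj) y yW₁ (hW hy) f₁ f₀ e₁
        |>.elim fun N h => (h.elim fun hm h => h.elim fun i₁ h => h.elim fun i₂ h =>
          (⟨N, i₁.le, i₂.le, hm, h⟩ : ∃ (N : Opens X) (h₁ : N ≤ W₁) (h₂ : N ≤ W₀), y ∈ N ∧ rs F h₁ f₁ = rs F h₂ f₀))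
      obtain ⟨N', cN', hyN', hN'⟩ := exists_compact_nbhd hyN
      refine ⟨(N' : Set X) ∩ (K₁ : Set X)ᶜ, ⊤, @IsOpen.inter X (constructibleTopology X) _ _
        (cN'.isOpen_constructibleTopology_of_isOpen N'.isOpen)
        (IsCompact.isOpen_constructibleTopology_of_isClosed (by rw [compl_compl]; exact cK₁) K₁.isOpen.isClosed_compl),
        ⟨hyN', yK₁⟩, trivial, fun z hz _ hzW => ?_⟩
      refine (hf₁ z (hN₁ (hN' hz.1)) hz.2).trans ?_
      rw [← gr_rs F hN₁ (hN' hz.1), ← gr_rs F hN (hN' hz.1), he]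
    · obtain ⟨O, hO, htO, hyO⟩ := not_specializes_iff_exists_open.1 hyt
      obtain ⟨K, cK, htK, hKO⟩ := exists_compact_nbhd (U := ⟨O, hO⟩) htO
      exact ⟨(K : Set X)ᶜ, K, IsCompact.isOpen_constructibleTopology_of_isClosed (by rw [compl_compl]; exact cK)
        K.isOpen.isClosed_compl, fun h => hyO (hKO h), htK, fun z hz hzK => absurd hzK hz⟩
  choose A K hA hyA htK hAg using hcov
  have hCS : @CompactSpace X (constructibleTopology X) :=
    @Function.Surjective.compactSpace _ _ _ (constructibleTopology X) _ (WithTopology.continuous_ofTopology _) _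
      (WithTopology.ofTopology_surjective _)
  have cW' : @IsCompact X (constructibleTopology X) (W : Set X) :=
    @IsClosed.isCompact X (constructibleTopology X) _ hCS (@IsClosed.mk X (constructibleTopology X) _
      (IsCompact.isOpen_constructibleTopology_of_isClosed (by rw [compl_compl]; exact cW) W.isOpen.isClosed_compl))
  obtain ⟨r, hr⟩ := @IsCompact.elim_finite_subcover X (constructibleTopology X) _ _ cW'
    (fun y : W => A y.1 y.2) (fun y => hA y.1 y.2) (fun y hy => Set.mem_iUnion.2 ⟨⟨y, hy⟩, hyA y hy⟩)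
  let N : Opens X := W ⊓ r.inf fun y => K y.1 y.2
  have htN : t ∈ N := ⟨htW, Finset.inf_induction (p := fun a : Opens X => t ∈ a) trivial
    (fun a ha b hb => ⟨ha, hb⟩) (fun y _ => htK y.1 y.2)⟩
  have hN : N ≤ U := inf_le_left.trans (hW.trans hW₀)
  refine ⟨gr F W₀ t htW₀ f₀, ?_⟩
  rw [← gr_natural (toCons F) htW₀ f₀, ← gr_rs (cons F) hN htN, ← gr_rs (cons F) (inf_le_left.trans hW : N ≤ W₀) htN]
  refine congrArg _ (Subtype.ext (funext fun z => Eq.symm ?_))
  obtain ⟨y, hy, hzA⟩ := Set.mem_iUnion₂.1 (hr z.2.1)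
  exact hAg y.1 y.2 z.1 hzA ((Finset.inf_le (f := fun y : W => K y.1 y.2) hy) z.2.2) z.2.1

/-- Vanishing and surjectivity of restrictions for sheaves with small support. -/
theorem cohomology_of_stalkLT : ∀ (e : ℕ) (F : CohTop.Ab X), StalkLT F e →
    (∀ U : Opens X, IsCompact (U : Set X) → ∀ p : ℕ, e ≤ p → Subsingleton (CohTop.HU F p U)) ∧
      ∀ ⦃U V : Opens X⦄ (h : U ≤ V), IsCompact (U : Set X) → IsCompact (V : Set X) → ∀ p : ℕ, p + 1 = e →
        Function.Surjective (CohTop.res F p h)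
  | 0, F, hF => by
    refine ⟨fun U _ p _ => subsingleton_of_forall_eq 0 fun x => ?_, fun U V h _ _ p hp => by omega⟩
    refine (Ext.comp_mk₀_id x).symm.trans ?_
    rw [(isZero_of_stalkLT_zero F hF).eq_of_src (𝟙 F) 0, Ext.mk₀_zero]
    exact Ext.comp_zero _ _ _ _ _
  | e + 1, F, hF => by
    have hm := mono_toCons F
    let S := ShortComplex.mk (toCons F) (cokernel.π (toCons F)) (cokernel.condition _)
    have hS : S.ShortExact := { exact := S.exact_of_g_is_cokernel (cokernelIsCokernel _) }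
    obtain ⟨hG, hG'⟩ := cohomology_of_stalkLT e _ (stalkLT_cokernel F e hF)
    have hC : ∀ U : Opens X, IsCompact (U : Set X) → ∀ n, Subsingleton (CohTop.HU (cons F) (n + 1) U) :=
      fun U hU n => subsingleton_HU_of_qcFlasque (qcFlasque_cons F) hU n
    refine ⟨fun U hU p hp => ?_, fun U V h hU hV p hp => ?_⟩
    · obtain ⟨q, rfl⟩ : ∃ q, p = q + 1 := ⟨p - 1, by omega⟩
      rcases q with _ | m
      · refine SiteBase.subsingleton_HU_one_X₁ hS U (hC U hU 0) fun c => ⟨0, ?_⟩
        have : Subsingleton (S.X₃.obj.obj (op U)) :=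
          (SiteBase.huZero S.X₃ U).symm.toEquiv.subsingleton_congr.2 (hG U hU 0 (by omega))
        exact Subsingleton.elim _ _
      · exact SiteBase.subsingleton_HU_X₁_succ hS U m (hC U hU (m + 1)) (hG U hU (m + 1) (by omega))
    · obtain rfl : p = e := by omega
      intro x
      rcases p with _ | q
      · obtain ⟨y, hy⟩ := res_zero_surjective h (qcFlasque_cons F h hU hV)
          ((x : Ext _ F 0).comp (Ext.mk₀ S.f) (add_zero 0))
        obtain ⟨z, hz⟩ := Ext.covariant_sequence_exact₂ _ hS (y : Ext _ (cons F) 0) ((hG V hV 0 le_rfl).elim _ _)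
        refine ⟨z, ?_⟩
        have := hS.mono_f
        obtain ⟨φ, rfl⟩ := (Ext.mk₀_bijective _ _).2 x
        obtain ⟨ψ, rfl⟩ := (Ext.mk₀_bijective _ _).2 z
        rw [← hz, app_mk_eq, Ext.mk₀_comp_mk₀, Ext.mk₀_comp_mk₀, Ext.mk₀_comp_mk₀] at hy
        rw [app_mk_eq, Ext.mk₀_comp_mk₀]
        refine congrArg _ ((cancel_mono S.f).1 ?_)
        rw [Category.assoc]
        exact (Ext.mk₀_bijective _ _).1 hy
      · obtain ⟨y, hy⟩ := Ext.covariant_sequence_exact₁ _ hS (x : Ext _ F (q + 1)) ((hC U hU q).elim _ _)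
          (n₀ := q) rfl
        obtain ⟨y', rfl⟩ := hG' h hU hV q rfl y
        refine ⟨(y' : Ext _ _ q).comp hS.extClass rfl, ?_⟩
        rw [← hy, app_mk_eq, app_mk_eq]
        exact (Ext.comp_assoc _ _ _ _ _ (by omega)).symm

end

end Groth.Agent.DSites.Spectral
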