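import Groth.Agent.DSites.Spectral.QCFlasque

/-!
# Families of germs which are locally constant for the constructible topology
-/

universe u

set_option autoImplicit false
set_option backward.isDefEq.respectTransparency false
set_option backward.isDefEq.respectTransparency.types false

open CategoryTheory CategoryTheory.Limits Opposite TopologicalSpace Topology
open Groth.Agent.DSites.PB

namespace Groth.Agent.DSites.Spectral

noncomputable section

variable {X : TopCat.{u}} [QuasiSeparatedSpace X] [PrespectralSpace X] (F : CohTop.Ab X)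

/-- A family of germs is given by one section on a constructible neighbourhood of `x`. -/
def LocalAt (U : Opens X) (s : ∀ y : U, (ClosedEmb.stalkF y.1).obj F) (x : X) : Prop :=
  ∃ (W : Opens X) (hW : W ≤ U) (K : Opens X), IsCompact (W : Set X) ∧ IsCompact (K : Set X) ∧ x ∈ W ∧ x ∉ K ∧
    ∃ f : F.obj.obj (op W), ∀ y (hy : y ∈ W), y ∉ K → s ⟨y, hW hy⟩ = gr F W y hy f

/-- The families of germs. -/
def famGerm (U : Opens X) : AddSubgroup (∀ y : U, (ClosedEmb.stalkF y.1).obj F) where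
  carrier := {s | ∀ x ∈ U, LocalAt F U s x}
  zero_mem' x hx := by
    obtain ⟨W, hc, hxW, hW⟩ := exists_compact_nbhd hx
    exact ⟨W, hW, ⊥, hc, by simp, hxW, fun h => h, 0, fun y hy _ => (map_zero _).symm⟩
  add_mem' {a b} ha hb x hx := by
    obtain ⟨W, hW, K, cW, cK, xW, xK, f, hf⟩ := ha x hx
    obtain ⟨W', hW', K', cW', cK', xW', xK', f', hf'⟩ := hb x hx
    refine ⟨W ⊓ W', inf_le_left.trans hW, K ⊔ K', isCompact_inf cW cW', isCompact_sup cK cK', ⟨xW, xW'⟩,
      fun h => h.elim xK xK', rs F inf_le_left f + rs F inf_le_right f', fun y hy hyK => ?_⟩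
    rw [map_add, gr_rs, gr_rs, ← hf y hy.1 (fun h => hyK (Or.inl h)), ← hf' y hy.2 (fun h => hyK (Or.inr h))]
    rfl
  neg_mem' {a} ha x hx := by
    obtain ⟨W, hW, K, cW, cK, xW, xK, f, hf⟩ := ha x hx
    exact ⟨W, hW, K, cW, cK, xW, xK, -f, fun y hy hyK => by rw [map_neg, ← hf y hy hyK]; rfl⟩

/-- Restriction of families. -/
def famRestr {U V : Opens X} (h : V ≤ U) : famGerm F U →+ famGerm F V where
  toFun s := ⟨fun y => s.1 ⟨y.1, h y.2⟩, fun x hx => by
    obtain ⟨W, hW, K, cW, cK, xW, xK, f, hf⟩ := s.2 x (h hx)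
    obtain ⟨W', cW', xW', hW'⟩ := exists_compact_nbhd (show x ∈ W ⊓ V from ⟨xW, hx⟩)
    exact ⟨W', hW'.trans inf_le_right, K, cW', cK, xW', xK, rs F (hW'.trans inf_le_left) f,
      fun y hy hyK => (hf y (hW' hy).1 hyK).trans (gr_rs F (hW'.trans inf_le_left) hy f).symm⟩⟩
  map_zero' := rfl
  map_add' _ _ := rfl

/-- The presheaf of families. -/
def famPresheaf : TopCat.Presheaf AddCommGrpCat.{u} X where
  obj U := AddCommGrpCat.of (famGerm F U.unop)
  map f := AddCommGrpCat.ofHom (famRestr F (leOfHom f.unop))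

theorem isSheaf_famPresheaf : (famPresheaf F).IsSheaf := by
  classical
  rw [TopCat.Presheaf.isSheaf_iff_isSheafUniqueGluing]
  intro ι U sf hsf
  let sf' : ∀ i, famGerm F (U i) := fun i => sf i
  have hc : ∀ i j (x : X) (hi : x ∈ U i) (hj : x ∈ U j), (sf' i).1 ⟨x, hi⟩ = (sf' j).1 ⟨x, hj⟩ :=
    fun i j x hi hj => congrArg (fun z : famGerm F (U i ⊓ U j) => z.1 ⟨x, hi, hj⟩) (hsf i j)
  have hmem : ∀ y : (iSup U : Opens X), ∃ i, y.1 ∈ U i := fun y => Opens.mem_iSup.1 y.2
  choose k hk using hmem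
  refine ⟨(⟨fun y => (sf' (k y)).1 ⟨y.1, hk y⟩, fun x hx => ?_⟩ : famGerm F (iSup U)), fun i => ?_,
    fun z hz => ?_⟩
  · obtain ⟨W, hW, K, cW, cK, xW, xK, f, hf⟩ := (sf' (k ⟨x, hx⟩)).2 x (hk ⟨x, hx⟩)
    exact ⟨W, hW.trans (le_iSup U _), K, cW, cK, xW, xK, f,
      fun y hy hyK => (hc _ _ y (hk ⟨y, le_iSup U _ (hW hy)⟩) (hW hy)).trans (hf y hy hyK)⟩
  · exact Subtype.ext (funext fun y => hc _ i y.1 _ y.2)
  · refine Subtype.ext (funext fun y => ?_)
    exact congrArg (fun w : famGerm F (U (k y)) => w.1 ⟨y.1, hk y⟩) (hz (k y))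

/-- The sheaf of families of germs which are locally constant for the constructible topology. -/
def cons : CohTop.Ab X := ⟨famPresheaf F, isSheaf_famPresheaf F⟩

theorem qcFlasque_cons : QCFlasque (cons F) := fun U V h hU hV s => by
  classical
  let s' : famGerm F U := s
  refine ⟨(⟨fun y => if hy : y.1 ∈ U then s'.1 ⟨y.1, hy⟩ else 0, fun x hx => ?_⟩ : famGerm F V),
    Subtype.ext (funext fun y => dif_pos y.2)⟩
  by_cases hxU : x ∈ U
  · obtain ⟨W, hW, K, cW, cK, xW, xK, f, hf⟩ := s'.2 x hxU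
    exact ⟨W, hW.trans h, K, cW, cK, xW, xK, f, fun y hy hyK => (dif_pos (hW hy)).trans (hf y hy hyK)⟩
  · exact ⟨V, le_rfl, U, hV, hU, hx, hxU, 0, fun y hy hyU => (dif_neg hyU).trans (map_zero _).symm⟩

/-- The germs of a section. -/
def toCons : F ⟶ cons F where
  hom :=
  { app := fun U => AddCommGrpCat.ofHom (AddMonoidHom.mk' (fun s => (⟨fun y => gr F U.unop y.1 y.2 s, fun x hx => by
      obtain ⟨W, hc, hxW, hW⟩ := exists_compact_nbhd hx
      exact ⟨W, hW, ⊥, hc, by simp, hxW, fun h => h, rs F hW s, fun y hy _ => (gr_rs F hW hy s).symm⟩⟩ :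
        famGerm F U.unop))
      fun a b => Subtype.ext (funext fun y => map_add (gr F U.unop y.1 y.2) a b))
    naturality := fun U V i => by
      refine AddCommGrpCat.ext fun s => Subtype.ext (funext fun y => ?_)
      exact gr_rs F (leOfHom i.unop) y.2 s }

theorem mono_toCons : Mono (toCons F) := by
  have : ∀ U, Mono (((sheafToPresheaf _ _).map (toCons F)).app U) := fun U =>
    (AddCommGrpCat.mono_iff_injective _).2 fun s t h => TopCat.Presheaf.section_ext F U.unop s t fun x hx =>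
      congrArg (fun z : famGerm F U.unop => z.1 ⟨x, hx⟩) h
  exact (sheafToPresheaf _ _).mono_of_mono_map (NatTrans.mono_of_mono_app _)

end

end Groth.Agent.DSites.Spectral
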