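import Groth.Agent.DSites.PB.Profinite
import Groth.Agent.SiteBase.Top
import Mathlib.Topology.Spectral.ConstructibleTopology
import Mathlib.Topology.KrullDimension

/-!
# Sheaves on spectral spaces which are flasque on quasi-compact opens
-/

universe u

set_option autoImplicit false
set_option backward.isDefEq.respectTransparency false
set_option backward.isDefEq.respectTransparency.types false

open CategoryTheory CategoryTheory.Limits Opposite TopologicalSpace Topology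
open Groth.Agent.DSites.PB
open Groth.Agent.DSites.Desc (secX)

namespace Groth.Agent.DSites.Spectral

noncomputable section

variable {X : TopCat.{u}}

/-- Surjectivity of the restrictions between quasi-compact opens. -/
def QCFlasque (F : CohTop.Ab X) : Prop :=
  ∀ ⦃U V : Opens X⦄ (h : U ≤ V), IsCompact (U : Set X) → IsCompact (V : Set X) → Function.Surjective (rs F h)

lemma exists_compact_nbhd [PrespectralSpace X] {U : Opens X} {x : X} (hx : x ∈ U) :
    ∃ W : Opens X, IsCompact (W : Set X) ∧ x ∈ W ∧ W ≤ U :=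
  let ⟨W, ⟨hWo, hWc⟩, hxW, hWV⟩ :=
    PrespectralSpace.isTopologicalBasis.exists_subset_of_mem_open hx U.isOpen
  ⟨⟨W, hWo⟩, hWc, hxW, hWV⟩

lemma isCompact_inf [QuasiSeparatedSpace X] {U V : Opens X} (hU : IsCompact (U : Set X))
    (hV : IsCompact (V : Set X)) : IsCompact ((U ⊓ V : Opens X) : Set X) :=
  QuasiSeparatedSpace.inter_isCompact (U : Set X) (V : Set X) U.isOpen hU V.isOpen hV

lemma isCompact_sup {U V : Opens X} (hU : IsCompact (U : Set X)) (hV : IsCompact (V : Set X)) :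
    IsCompact ((U ⊔ V : Opens X) : Set X) := by
  rw [Opens.coe_sup]
  exact hU.union hV

lemma exists_of_app_eq_zero {S : ShortComplex (CohTop.Ab X)} (hS : S.ShortExact) {W : Opens X}
    (b : S.X₂.obj.obj (op W)) (hb : S.g.hom.app (op W) b = 0) : ∃ a, S.f.hom.app (op W) a = b := by
  have := hS.mono_f
  have h := hS.exact.map_of_mono_of_preservesKernel (secX W) hS.mono_f inferInstance
  exact (ShortComplex.ab_exact_iff _).1 h b hb

theorem surjective_of_qcFlasque [QuasiSeparatedSpace X] [PrespectralSpace X]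
    {S : ShortComplex (CohTop.Ab X)} (hS : S.ShortExact) (h₁ : QCFlasque S.X₁)
    {V : Opens X} (hV : IsCompact (V : Set X)) : Function.Surjective (S.g.hom.app (op V)).hom := by
  classical
  intro t
  let P : Opens X → Prop := fun W => ∃ h : W ≤ V, IsCompact (W : Set X) ∧
    ∃ s, S.g.hom.app (op W) s = rs S.X₃ h t
  have hbot : P ⊥ := ⟨bot_le, by simp, 0, by
    refine (map_zero _).trans ?_
    exact TopCat.Sheaf.eq_of_locally_eq' S.X₃ (fun c : PEmpty.{u + 1} => c.elim) ⊥ (fun c => c.elim) bot_le _ _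
      (fun c => c.elim)⟩
  have hsup : ∀ W₁ W₂, P W₁ → P W₂ → P (W₁ ⊔ W₂) := by
    rintro W₁ W₂ ⟨l₁, c₁, s₁, e₁⟩ ⟨l₂, c₂, s₂, e₂⟩
    obtain ⟨a, ha⟩ := exists_of_app_eq_zero hS
      (rs S.X₂ (inf_le_left : W₁ ⊓ W₂ ≤ W₁) s₁ - rs S.X₂ (inf_le_right : W₁ ⊓ W₂ ≤ W₂) s₂) (by
        rw [map_sub, ← rs_natural, ← rs_natural, e₁, e₂, rs_rs, rs_rs, sub_self])
    obtain ⟨a', ha'⟩ := h₁ (inf_le_right : W₁ ⊓ W₂ ≤ W₂) (isCompact_inf c₁ c₂) c₂ a
    let s₂' := s₂ + S.f.hom.app (op W₂) a'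
    have key : rs S.X₂ (inf_le_left : W₁ ⊓ W₂ ≤ W₁) s₁ = rs S.X₂ (inf_le_right : W₁ ⊓ W₂ ≤ W₂) s₂' := by
      rw [map_add, rs_natural S.f inf_le_right a', ha', ha, add_sub_cancel]
    let U : ULift.{u} Bool → Opens X := fun b => bif b.down then W₁ else W₂
    have hU : ∀ b, U b ≤ W₁ ⊔ W₂ := fun ⟨b⟩ => by cases b <;> simp [U]
    have hc : W₁ ⊔ W₂ ≤ iSup U := sup_le (le_iSup U ⟨true⟩) (le_iSup U ⟨false⟩)
    obtain ⟨r, hr, -⟩ := glue_rs S.X₂ U _ hU hc (fun | ⟨true⟩ => s₁ | ⟨false⟩ => s₂') (by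
      rintro ⟨_ | _⟩ ⟨_ | _⟩
      · rfl
      · have := congrArg (rs S.X₂ (le_inf inf_le_right inf_le_left : W₂ ⊓ W₁ ≤ W₁ ⊓ W₂)) key
        rw [rs_rs, rs_rs] at this
        exact this.symm
      · exact key
      · rfl)
    have hgf : S.g.hom.app (op W₂) (S.f.hom.app (op W₂) a') = 0 :=
      congrArg (fun q : S.X₁ ⟶ S.X₃ => q.hom.app (op W₂) a') S.zero
    refine ⟨sup_le l₁ l₂, isCompact_sup c₁ c₂, r, TopCat.Sheaf.eq_of_locally_eq' S.X₃ U _
      (fun b => homOfLE (hU b)) hc _ _ fun ⟨b⟩ => ?_⟩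
    show rs S.X₃ (hU ⟨b⟩) _ = rs S.X₃ (hU ⟨b⟩) (rs S.X₃ _ t)
    rw [rs_natural, hr, rs_rs]
    cases b
    · show S.g.hom.app (op W₂) s₂' = _
      rw [map_add, hgf, add_zero, e₂]
      rfl
    · exact e₁
  have hloc : ∀ x : V, ∃ W : Opens X, x.1 ∈ W ∧ P W := fun x => by
    have := hS.epi_g
    obtain ⟨W, hW, hxW, s, hs⟩ := exists_local_lift S.g t x.2
    obtain ⟨W', hW', hxW', hW'W⟩ := exists_compact_nbhd hxW
    exact ⟨W', hxW', hW'W.trans hW, hW', rs S.X₂ hW'W s, by rw [← rs_natural, hs, rs_rs]⟩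
  choose W hxW hPW using hloc
  obtain ⟨s, hs⟩ := hV.elim_finite_subcover (fun x => (W x : Set X)) (fun x => (W x).isOpen)
    (fun x hx => Set.mem_iUnion.2 ⟨⟨x, hx⟩, hxW _⟩)
  have hP : P (s.sup W) := Finset.sup_induction hbot (fun a ha b hb => hsup a b ha hb) fun x _ => hPW x
  obtain ⟨hle, -, r, hr⟩ := hP
  have hle' : V ≤ s.sup W := fun x hx => by
    obtain ⟨i, hi, hxi⟩ := Set.mem_iUnion₂.1 (hs hx)
    exact (Finset.le_sup (f := W) hi) hxi
  refine ⟨rs S.X₂ hle' r, ?_⟩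
  show S.g.hom.app (op V) (rs S.X₂ hle' r) = t
  rw [← rs_natural, hr, rs_rs, rs_self]

theorem qcFlasque_of_injective (I : CohTop.Ab X) [Injective I] : QCFlasque I := fun U V h _ _ =>
  have := SiteBase.isFlasque_of_injective I
  flasque_rs I h

theorem subsingleton_HU_of_qcFlasque [QuasiSeparatedSpace X] [PrespectralSpace X] {F : CohTop.Ab X}
    (hF : QCFlasque F) {U : Opens X} (hU : IsCompact (U : Set X)) (n : ℕ) :
    Subsingleton (CohTop.HU F (n + 1) U) := by
  refine SiteBase.subsingleton_HU_of_class (J := Opens.grothendieckTopology X) QCFlasque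
    (fun U => IsCompact (U : Set X)) ?_ ?_ hF hU n
  · intro E hE h₁ h₂ U V h hU hV s
    obtain ⟨t, ht⟩ := surjective_of_qcFlasque hE h₁ hU s
    have := SiteBase.isFlasque_of_injective E.X₂
    obtain ⟨t', ht'⟩ := flasque_rs E.X₂ h t
    exact ⟨E.g.hom.app (op V) t', by rw [rs_natural, ht', ht]⟩
  · intro E hE h₁ _ U hU
    exact surjective_of_qcFlasque hE h₁ hU

lemma app_mk_eq {F : CohTop.Ab X} (U : Opens X) (n : ℕ) {V : Opens X} (h : V ≤ U) (x : CohTop.HU F n U) :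
    CohTop.res F n h x = (Abelian.Ext.mk₀ (CohCx.freeSheafMap (Opens.grothendieckTopology X) (homOfLE h))).comp
      (x : Abelian.Ext (CohCx.freeSheaf (Opens.grothendieckTopology X) U) F n) (zero_add n) := rfl

theorem res_zero_surjective {F : CohTop.Ab X} {U V : Opens X} (h : U ≤ V)
    (hs : Function.Surjective (rs F h)) : Function.Surjective (CohTop.res F 0 h) := by
  intro x
  obtain ⟨φ, rfl⟩ := (Abelian.Ext.mk₀_bijective _ _).2 x
  obtain ⟨t, ht⟩ := hs (SiteBase.secEquiv _ U F φ)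
  refine ⟨Abelian.Ext.mk₀ ((SiteBase.secEquiv _ V F).symm t), ?_⟩
  rw [app_mk_eq, Abelian.Ext.mk₀_comp_mk₀]
  refine congrArg _ ((SiteBase.secEquiv _ U F).injective ?_)
  rw [SiteBase.secEquiv_freeSheafMap, AddEquiv.apply_symm_apply]
  exact ht

end

end Groth.Agent.DSites.Spectral
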